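import Mathlib
import Cfsg.Agent.S0752
import Cfsg.Agent.H176.SymmCharTwo
import Cfsg.Agent.ClassicalGeometry.WittQuad
set_option linter.all false

/-!
# Conjugacy of involutions in orthogonal groups in characteristic two

`conj_of_rank_type`: let `Q` be a quadratic form with non-degenerate polar form over a finite field
of characteristic two, `N`, `N'` linear maps with `N² = N'² = 0` such that `1 + N`, `1 + N'` are
isometries.  If `rank N = rank N'` and (`Q ∘ N = 0` iff `Q ∘ N' = 0`) then some isometry `g`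
satisfies `g N = N' g`.
-/

set_option autoImplicit false

namespace Cfsg.Agent.H177.InvolOrth

open Module

section Forms

variable {F V V' : Type*} [Field F] [AddCommGroup V] [Module F V]
  [AddCommGroup V'] [Module F V']

/-- Two bilinear forms with the same Gram matrix are isometric. -/
theorem form_equiv_of_basis {ι : Type*} (B : LinearMap.BilinForm F V) (B' : LinearMap.BilinForm F V')
    (b : Basis ι F V) (b' : Basis ι F V') (h : ∀ i j, B (b i) (b j) = B' (b' i) (b' j)) :
    ∃ φ : V ≃ₗ[F] V', ∀ x y, B' (φ x) (φ y) = B x y := by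
  refine ⟨b.equiv b' (Equiv.refl ι), ?_⟩
  have key : (B'.compl₁₂ (b.equiv b' (Equiv.refl ι) : V →ₗ[F] V')
      (b.equiv b' (Equiv.refl ι) : V →ₗ[F] V')) = B := by
    refine LinearMap.BilinForm.ext_basis b fun i j => ?_
    rw [LinearMap.compl₁₂_apply, LinearEquiv.coe_coe, Basis.equiv_apply, Basis.equiv_apply, h]
    rfl
  intro x y
  rw [← key]
  rfl

/-- Symplectic basis of a non-degenerate alternating form. -/
theorem exists_symplectic_basis [FiniteDimensional F V] (B : LinearMap.BilinForm F V)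
    (hA : B.IsAlt) (hB : B.Nondegenerate) :
    ∃ (m : ℕ) (b : Basis (Fin m ⊕ Fin m) F V), finrank F V = 2 * m ∧
      (∀ i j : Fin m, B (b (Sum.inl i)) (b (Sum.inr j)) = if i = j then 1 else 0) ∧
      (∀ i j : Fin m, B (b (Sum.inr i)) (b (Sum.inl j)) = if i = j then -1 else 0) ∧
      (∀ i j : Fin m, B (b (Sum.inl i)) (b (Sum.inl j)) = 0) ∧
      (∀ i j : Fin m, B (b (Sum.inr i)) (b (Sum.inr j)) = 0) := by
  obtain ⟨m, k, b, h1, h2, h3, h4⟩ := Cfsg.Agent.S0752.result B hA
  have hk : k = 0 := by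
    by_contra hk
    have h5 : b (Sum.inr ⟨0, Nat.pos_of_ne_zero hk⟩) = 0 := hB.1 _ (h4 _)
    exact b.ne_zero _ h5
  subst hk
  let e : (Fin m ⊕ Fin m) ⊕ Fin 0 ≃ Fin m ⊕ Fin m := Equiv.sumEmpty _ _
  have he : ∀ i, (b.reindex e) i = b (Sum.inl i) := by
    intro i
    rw [Basis.reindex_apply]
    rfl
  refine ⟨m, b.reindex e, ?_, ?_, ?_, ?_, ?_⟩
  · rw [finrank_eq_card_basis (b.reindex e), Fintype.card_sum, Fintype.card_fin, two_mul]
  · intro i j
    rw [he, he, h1]
  · intro i j
    rw [he, he, ← hA.neg_eq, h1]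
    by_cases hij : i = j
    · subst hij; simp
    · rw [if_neg hij, if_neg (Ne.symm hij), neg_zero]
  · intro i j
    rw [he, he, h2]
  · intro i j
    rw [he, he, h3]

/-- Two non-degenerate alternating forms of the same rank are isometric. -/
theorem exists_alt_equiv [FiniteDimensional F V] [FiniteDimensional F V']
    (B : LinearMap.BilinForm F V) (B' : LinearMap.BilinForm F V') (hA : B.IsAlt) (hA' : B'.IsAlt)
    (hB : B.Nondegenerate) (hB' : B'.Nondegenerate) (hd : finrank F V = finrank F V') :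
    ∃ φ : V ≃ₗ[F] V', ∀ x y, B' (φ x) (φ y) = B x y := by
  obtain ⟨m, b, hm, h1, h2, h3, h4⟩ := exists_symplectic_basis B hA hB
  obtain ⟨m', b', hm', h1', h2', h3', h4'⟩ := exists_symplectic_basis B' hA' hB'
  have hmm : m = m' := by omega
  subst hmm
  refine form_equiv_of_basis B B' b b' ?_
  rintro (i | i) (j | j)
  · rw [h3, h3']
  · rw [h1, h1']
  · rw [h2, h2']
  · rw [h4, h4']

/-- Two non-degenerate symmetric non-alternating forms of the same rank over a finite field of
characteristic two are isometric. -/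
theorem exists_symm_equiv [Finite F] [CharP F 2] [FiniteDimensional F V] [FiniteDimensional F V']
    (B : LinearMap.BilinForm F V) (B' : LinearMap.BilinForm F V') (hS : B.IsSymm) (hS' : B'.IsSymm)
    (hB : B.Nondegenerate) (hB' : B'.Nondegenerate) (hd : finrank F V = finrank F V')
    (hna : ∃ v, B v v ≠ 0) (hna' : ∃ v, B' v v ≠ 0) :
    ∃ φ : V ≃ₗ[F] V', ∀ x y, B' (φ x) (φ y) = B x y := by
  obtain ⟨b, hb⟩ := Cfsg.Agent.H176.SymmCharTwo.exists_orthonormal_basis
    Cfsg.Agent.H176.SymmCharTwo.exists_sq hd B hS hB hna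
  obtain ⟨b', hb'⟩ := Cfsg.Agent.H176.SymmCharTwo.exists_orthonormal_basis
    Cfsg.Agent.H176.SymmCharTwo.exists_sq rfl B' hS' hB' hna'
  exact form_equiv_of_basis B B' b b' fun i j => by rw [hb, hb']

end Forms

section Invol

variable {F V : Type*} [Field F] [AddCommGroup V] [Module F V]
variable (Q : QuadraticForm F V)

theorem form_add' (u v : V) :
    Q (u + v) = Q u + Q v + QuadraticMap.polarBilin Q u v :=
  Cfsg.Agent.ClassicalGeometry.WittQuad.form_add Q u v

theorem polar_comm' (u v : V) :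
    QuadraticMap.polarBilin Q u v = QuadraticMap.polarBilin Q v u :=
  Cfsg.Agent.ClassicalGeometry.WittQuad.polar_comm' Q u v

variable (N : V →ₗ[F] V)

/-- `1 + N` is an isometry: the polar form. -/
theorem polar_one_add (hN : ∀ x, Q (x + N x) = Q x) (x y : V) :
    QuadraticMap.polarBilin Q x (N y) + QuadraticMap.polarBilin Q (N x) y
      + QuadraticMap.polarBilin Q (N x) (N y) = 0 := by
  have h1 := Cfsg.Agent.ClassicalGeometry.WittQuad.polar_map Q (fun x => x + N x)
    (fun u v => by rw [map_add]; abel) hN x y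
  simp only [map_add, LinearMap.add_apply] at h1
  linear_combination h1

variable (hNN : ∀ x, N (N x) = 0) (hN : ∀ x, Q (x + N x) = Q x)

include hNN hN

theorem polar_N_N (x y : V) : QuadraticMap.polarBilin Q (N x) (N y) = 0 := by
  have h := polar_one_add Q N hN x (N y)
  rw [hNN, map_zero, map_zero, zero_add, add_zero] at h
  exact h

theorem polar_N (x y : V) :
    QuadraticMap.polarBilin Q (N x) y = - QuadraticMap.polarBilin Q x (N y) := by
  have h := polar_one_add Q N hN x y
  rw [polar_N_N Q N hNN hN, add_zero] at h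
  linear_combination h

omit hNN in
theorem Q_N (x : V) : Q (N x) = - QuadraticMap.polarBilin Q x (N x) := by
  have h := hN x
  rw [form_add'] at h
  linear_combination h

omit hNN hN in
/-- A linear section of `N` onto its range. -/
theorem exists_section : ∃ σ : LinearMap.range N →ₗ[F] V, ∀ m, N (σ m) = m := by
  obtain ⟨σ, hσ⟩ := LinearMap.exists_rightInverse_of_surjective N.rangeRestrict
    N.range_rangeRestrict
  refine ⟨σ, fun m => ?_⟩
  have := LinearMap.congr_fun hσ m
  exact congrArg Subtype.val this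

/-- The form on the range of `N`: `γ(N x, m) = f(x, m)`. -/
theorem exists_gamma [CharP F 2] (hQ : (QuadraticMap.polarBilin Q).Nondegenerate) :
    ∃ γ : LinearMap.BilinForm F (LinearMap.range N), γ.Nondegenerate ∧
      (∀ (x : V) (m : LinearMap.range N),
        γ ⟨N x, LinearMap.mem_range_self N x⟩ m = QuadraticMap.polarBilin Q x m) ∧
      γ.IsSymm ∧ ∀ m : LinearMap.range N, γ m m = Q m := by
  obtain ⟨σ, hσ⟩ := exists_section N
  let γ : LinearMap.BilinForm F (LinearMap.range N) :=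
    (QuadraticMap.polarBilin Q).compl₁₂ σ (LinearMap.range N).subtype
  have h1 : ∀ (x : V) (m : LinearMap.range N),
      γ ⟨N x, LinearMap.mem_range_self N x⟩ m = QuadraticMap.polarBilin Q x m := by
    rintro x ⟨_, y, rfl⟩
    change QuadraticMap.polarBilin Q (σ ⟨N x, _⟩) (N y) = QuadraticMap.polarBilin Q x (N y)
    have h2 := polar_N Q N hNN hN (σ ⟨N x, LinearMap.mem_range_self N x⟩) y
    rw [hσ, polar_N Q N hNN hN] at h2
    exact (neg_injective h2).symm
  have h2 : ∀ m m', γ m m' = γ m' m := by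
    rintro ⟨_, x, rfl⟩ ⟨_, y, rfl⟩
    rw [h1, h1, polar_comm', polar_N Q N hNN hN, CharTwo.neg_eq]
  have h3 : ∀ m, (∀ m', γ m m' = 0) → m = 0 := by
    rintro ⟨_, x, rfl⟩ h
    apply Subtype.ext
    apply hQ.1
    intro y
    rw [polar_N Q N hNN hN, neg_eq_zero]
    have := h ⟨N y, LinearMap.mem_range_self N y⟩
    rwa [h1] at this
  refine ⟨γ, ⟨h3, fun m h => h3 m fun m' => by rw [h2, h]⟩, h1, ⟨h2⟩, ?_⟩
  rintro ⟨_, x, rfl⟩
  rw [h1, Q_N Q N hN, CharTwo.neg_eq]

omit hNN hN in
/-- **Conjugacy of involutions of orthogonal groups in characteristic two.** -/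
theorem conj_of_rank_type [Finite F] [CharP F 2] [FiniteDimensional F V]
    (hQ : (QuadraticMap.polarBilin Q).Nondegenerate)
    (N N' : V →ₗ[F] V) (hNN : ∀ x, N (N x) = 0) (hN : ∀ x, Q (x + N x) = Q x)
    (hNN' : ∀ x, N' (N' x) = 0) (hN' : ∀ x, Q (x + N' x) = Q x)
    (hr : finrank F (LinearMap.range N) = finrank F (LinearMap.range N'))
    (ht : (∀ x, Q (N x) = 0) ↔ ∀ x, Q (N' x) = 0) :
    ∃ g : V ≃ₗ[F] V, (∀ v, Q (g v) = Q v) ∧ ∀ x, g (N x) = N' (g x) := by
  obtain ⟨γ, hγ, h1, hS, h2⟩ := exists_gamma Q N hNN hN hQ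
  obtain ⟨γ', hγ', h1', hS', h2'⟩ := exists_gamma Q N' hNN' hN' hQ
  obtain ⟨φ, hφ⟩ : ∃ φ : LinearMap.range N ≃ₗ[F] LinearMap.range N',
      ∀ x y, γ' (φ x) (φ y) = γ x y := by
    by_cases h : ∀ x, Q (N x) = 0
    · refine exists_alt_equiv γ γ' ?_ ?_ hγ hγ' hr
      · rintro ⟨_, x, rfl⟩
        rw [h2, h]
      · rintro ⟨_, x, rfl⟩
        rw [h2', ht.1 h]
    · have h' : ¬ ∀ x, Q (N' x) = 0 := fun h0 => h (ht.2 h0)
      push Not at h h'
      obtain ⟨x, hx⟩ := h
      obtain ⟨x', hx'⟩ := h'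
      exact exists_symm_equiv γ γ' hS hS' hγ hγ' hr
        ⟨⟨N x, LinearMap.mem_range_self N x⟩, by rwa [h2]⟩
        ⟨⟨N' x', LinearMap.mem_range_self N' x'⟩, by rwa [h2']⟩
  obtain ⟨g, hg, hgφ⟩ := Cfsg.Agent.ClassicalGeometry.WittQuad.extend Q hQ _ _ φ (fun m => by
    rw [← h2', hφ, h2])
  refine ⟨g, hg, fun x => ?_⟩
  have hpol := Cfsg.Agent.ClassicalGeometry.WittQuad.polar_map Q g (map_add g) hg
  have key : φ ⟨N x, LinearMap.mem_range_self N x⟩
      = ⟨N' (g x), LinearMap.mem_range_self N' (g x)⟩ := by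
    rw [← sub_eq_zero]
    apply hγ'.1
    intro m'
    obtain ⟨m, rfl⟩ := φ.surjective m'
    rw [map_sub, LinearMap.sub_apply, hφ, h1, h1', ← hgφ, hpol, sub_self]
  rw [hgφ ⟨N x, LinearMap.mem_range_self N x⟩, key]

end Invol

end Cfsg.Agent.H177.InvolOrth
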