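import Mathlib
import Cfsg.Agent.H478.RadTools_m3
import Cfsg.Agent.H478.SporCore_m3
import Cfsg.Agent.Co2Type.Quad
import Cfsg.Agent.Lib.NormalAbelian
import Cfsg.Agent.BpSpor.RowAll
import Cfsg.Agent.FastGrp
import Cfsg.Agent.Prune
set_option linter.all false
prune_inst 0x7f00000000000000000000000000000000000000000000000000000000000000000000000000000000000000000000000000000000000000000000000000000000000000000000000000000000000000003fffffffffffffffffffffffffffbeffbdffffffff
open scoped Cfsg.Agent.FastGrp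

-- part: H177/AATools
section
/-!
# `AA` problem: tools for sporadic groups (helper177)

* `conj_mem_of_index` : an element of order `p` is conjugate into every subgroup of index prime to `p`;
* `false_of_two_primes`, `false_of_two_primes_index` : an `RC` element of order `p` in a proper subgroup of order divisible
  by `r`, where no solvable subgroup contains elements of orders `p` and `r`;
* `comm_of_kernel` : Lemma 1 for a nilpotent subgroup whose centre is centralised;
* `false_of_large` : `a` commutes with no `z` having a large extraspecial subgroup.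
-/

set_option autoImplicit false
set_option linter.unusedSectionVars false

namespace Cfsg.Agent.H177.AATools

open Subgroup Cfsg Cfsg.Agent.H459.Rad Cfsg.Agent.H460.AA

variable {K : Type*} [Group K] [Finite K] {p : ℕ} [hp : Fact p.Prime]

theorem conj_mem_of_index {H : Subgroup K} (hi : ¬ p ∣ H.index) {a : K} (ha : orderOf a = p) :
    ∃ g : K, g * a * g⁻¹ ∈ H := by
  have h1 : IsPGroup p (zpowers a) := IsPGroup.of_card (n := 1) (by rw [Nat.card_zpowers, ha, pow_one])
  have h2 : (MulAction.fixedPoints (zpowers a) (K ⧸ H)).Nonempty :=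
    h1.nonempty_fixed_point_of_prime_not_dvd_card (α := K ⧸ H) hi
  obtain ⟨y, hy⟩ := h2
  obtain ⟨g, rfl⟩ := QuotientGroup.mk_surjective y
  refine ⟨g⁻¹, ?_⟩
  have h3 := hy ⟨a, mem_zpowers a⟩
  have h4 : ((a * g : K) : K ⧸ H) = (g : K ⧸ H) := h3
  rw [QuotientGroup.eq] at h4
  have h5 := H.inv_mem h4
  rw [inv_inv]
  have e : ((a * g)⁻¹ * g)⁻¹ = g⁻¹ * a * g := by group
  rwa [e] at h5

omit [Finite K] in
theorem order_conj {a : K} (ha : orderOf a = p) (g : K) : orderOf (g * a * g⁻¹) = p := by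
  rw [← ha]; exact orderOf_injective (MulAut.conj g).toMonoidHom (MulAut.conj g).injective a

omit [Finite K] in
theorem pe_conj {a : K} (h : ∀ g : K, PE p (a * (g * a * g⁻¹))) (k : K) :
    ∀ g : K, PE p (k * a * k⁻¹ * (g * (k * a * k⁻¹) * g⁻¹)) := by
  intro g
  have h1 := (h (k⁻¹ * g * k)).conj k
  have e : k * (a * (k⁻¹ * g * k * a * (k⁻¹ * g * k)⁻¹)) * k⁻¹ = k * a * k⁻¹ * (g * (k * a * k⁻¹) * g⁻¹) := by group
  rwa [e] at h1

/-- `RC` element in a proper subgroup of order divisible by `r` -/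
theorem false_of_two_primes {r : ℕ} (hr : r.Prime)
    (hno : ∀ x y : K, orderOf x = p → orderOf y = r → ¬ Group.IsSolvable ↥(closure ({x, y} : Set K)))
    {H : Subgroup K} (hH : H ≠ ⊤) (hd : r ∣ Nat.card H) {a : K} (ha : orderOf a = p) (haH : a ∈ H)
    (h : RC (MulAut.conj a)) : False := by
  have : Fact r.Prime := ⟨hr⟩
  obtain ⟨y, hy⟩ := exists_prime_orderOf_dvd_card' r hd
  have hyo : orderOf (y : K) = r := by rw [← hy]; exact Subgroup.orderOf_coe y
  apply hno a y ha hyo
  -- the subgroup `R · ⟨y⟩`, `R` the radical of `H`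
  have haR : (⟨a, haH⟩ : H) ∈ solvableRadical H := mem_radIn_coe.1 (mem_radIn h hH haH)
  set R := solvableRadical H with hR
  -- the closure in `H`
  set M : Subgroup H := closure ({⟨a, haH⟩, y} : Set H) with hM
  have hMs : Group.IsSolvable M := by
    -- `M ∩ R` is normal with cyclic quotient
    set q : H →* H ⧸ R := QuotientGroup.mk' R with hq
    have hqM : M.map q ≤ zpowers (q y) := by
      rw [hM, map_le_iff_le_comap, closure_le]
      rintro x (rfl | hx)
      · have h8 : q ⟨a, haH⟩ = 1 := (QuotientGroup.eq_one_iff _).2 haR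
        have h9 : q ⟨a, haH⟩ ∈ zpowers (q y) := by rw [h8]; exact one_mem _
        exact h9
      · rw [Set.mem_singleton_iff.1 hx]
        exact mem_zpowers (q y)
    have hcyc : Group.IsSolvable ↥(M.map q) := by
      have h1 : ∀ u v : ↥(M.map q), u * v = v * u := by
        intro u v
        obtain ⟨i, hi⟩ := mem_zpowers_iff.1 (hqM u.2)
        obtain ⟨j, hj⟩ := mem_zpowers_iff.1 (hqM v.2)
        apply Subtype.ext
        change (u : H ⧸ R) * v = v * u
        rw [← hi, ← hj, ← zpow_add, ← zpow_add, add_comm]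
      let _ : CommGroup ↥(M.map q) := { (inferInstance : Group ↥(M.map q)) with mul_comm := h1 }
      infer_instance
    have hRs : Group.IsSolvable R := by rw [hR]; infer_instance
    -- extension
    let f : M →* ↥(M.map q) := q.subgroupMap M
    have hker : Group.IsSolvable f.ker := by
      have h2 : ∀ x : f.ker, ((x : M) : H) ∈ R := by
        intro x
        have h3 : f x = 1 := x.2
        have h4 : q ((x : M) : H) = 1 := congrArg Subtype.val h3
        exact (QuotientGroup.eq_one_iff _).1 h4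
      let j : f.ker →* R := (M.subtype.comp f.ker.subtype).codRestrict R h2
      have hj : Function.Injective j := by
        intro x y hxy
        have h5 := congrArg Subtype.val hxy
        exact Subtype.ext (Subtype.ext h5)
      exact Group.isSolvable_of_isSolvable_injective hj
    exact Group.isSolvable_of_ker_le_range f.ker.subtype f (by rw [Subgroup.range_subtype])
  have e : closure ({a, (y : K)} : Set K) = M.map H.subtype := by
    rw [hM, MonoidHom.map_closure]
    congr 1
    simp [Set.image_pair]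
  rw [e]
  exact Group.isSolvable_of_surjective (f := H.subtype.subgroupMap M) (H.subtype.subgroupMap_surjective M)

theorem false_of_two_primes_index {r : ℕ} (hr : r.Prime)
    (hno : ∀ x y : K, orderOf x = p → orderOf y = r → ¬ Group.IsSolvable ↥(closure ({x, y} : Set K)))
    {H : Subgroup K} (hH : H ≠ ⊤) (hd : r ∣ Nat.card H) (hi : ¬ p ∣ H.index) {a : K} (ha : orderOf a = p)
    (h : RC (MulAut.conj a)) : False := by
  obtain ⟨g, hg⟩ := conj_mem_of_index hi ha
  exact false_of_two_primes hr hno hH hd (order_conj ha g) hg (RC_conj h g)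

/-- no commuting elements of orders `p` and `r`, and the arithmetic condition -/
theorem no_solvable {r : ℕ} (hr : r.Prime) (hcomm : ∀ x y : K, orderOf x = p → orderOf y = r → x * y ≠ y * x) (k l : ℕ)
    (hk : ¬ p ^ (k + 1) ∣ Nat.card K) (hk' : ∀ i ∈ List.range (k + 1), 0 < i → ¬ r ∣ p ^ i - 1)
    (hl : ¬ r ^ (l + 1) ∣ Nat.card K) (hl' : ∀ i ∈ List.range (l + 1), 0 < i → ¬ p ∣ r ^ i - 1) :
    ∀ x y : K, orderOf x = p → orderOf y = r → ¬ Group.IsSolvable ↥(closure ({x, y} : Set K)) := by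
  intro x y hx hy
  refine Cfsg.Agent.H728.DghpLem.not_solvable_of_norm (a := 1) (b := 1) hp.out hr one_pos ?_ ?_ x y
    (by rw [hx, pow_one]) (by rw [hy, pow_one])
  · intro P hP y hy hn
    rw [pow_one] at hy
    obtain ⟨i, hi, h1, h2⟩ := Cfsg.Agent.H478.SporCore.dvd_of_norm hp.out hr hP hy hn fun u hu hu1 h =>
      hcomm u y (orderOf_eq_prime (hP.2.2 u hu) hu1) hy h.symm
    refine hk' i ?_ hi h2
    rw [List.mem_range]
    by_contra hlt
    exact hk ((pow_dvd_pow _ (by omega)).trans h1)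
  · intro P hP x hx hn
    rw [pow_one] at hx
    have : Fact r.Prime := ⟨hr⟩
    obtain ⟨i, hi, h1, h2⟩ := Cfsg.Agent.H478.SporCore.dvd_of_norm hr hp.out hP hx hn fun u hu hu1 h =>
      hcomm x u hx (orderOf_eq_prime (hP.2.2 u hu) hu1) h
    refine hl' i ?_ hi h2
    rw [List.mem_range]
    by_contra hlt
    exact hl ((pow_dvd_pow _ (by omega)).trans h1)

/-- **Lemma 1 for nilpotent subgroups**: `Q` a nilpotent `p'`-subgroup normalised by `a`, the centre of `Q` centralised
by `a`: then `a` centralises `Q` -/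
theorem comm_of_kernel {Q : Subgroup K} (hQ : ¬ p ∣ Nat.card Q) (hnil : Group.IsNilpotent Q) {a : K}
    (hn : ∀ k, a * k * a⁻¹ ∈ Q ↔ k ∈ Q) (hP : ∀ k ∈ Q, PE p (a * (k * a * k⁻¹)))
    (hc : ∀ x ∈ Q, (∀ y ∈ Q, x * y = y * x) → a * x = x * a) : ∀ x ∈ Q, a * x = x * a := by
  set N := Cfsg.Agent.H460.Lem1.NN hQ hn hP with hN
  have hNQ : N ≤ Q := Cfsg.Agent.H460.Lem1.NN_le hQ hn hP
  have hN1 : N = ⊥ := by
    by_contra hne
    -- the normal subgroup `N` of `Q` meets the centre
    have hNn : (N.subgroupOf Q).Normal := ⟨fun n hn' k =>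
      Cfsg.Agent.H460.Lem1.NN_conj hQ hn hP k.2 hn'⟩
    have hne' : N.subgroupOf Q ≠ ⊥ := by
      intro h
      apply hne
      rw [subgroupOf_eq_bot, disjoint_iff, inf_eq_left.2 hNQ] at h
      exact h
    obtain ⟨n, hnN, hnc, hn1⟩ : ∃ n : Q, n ∈ N.subgroupOf Q ∧ n ∈ center Q ∧ n ≠ 1 := by
      have h3 := Cfsg.Agent.Lib.NormalAbelian.normal_inf_center_ne_bot (N.subgroupOf Q) hne'
      obtain ⟨n, hn, hn1⟩ := (bot_or_exists_ne_one _).resolve_left h3
      exact ⟨n, hn.1, hn.2, hn1⟩
    apply hn1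
    refine Subtype.ext (Cfsg.Agent.H460.Lem1.eq_one_of_comm hQ hn hP hnN ?_)
    have h4 := hc n n.2 fun y hy => congrArg Subtype.val ((mem_center_iff.1 hnc ⟨y, hy⟩).symm)
    exact h4.symm
  intro x hx
  have h1 := Cfsg.Agent.H460.Lem1.comm_mem hQ hn hP hx
  rw [← hN, hN1, mem_bot] at h1
  have h2 : a⁻¹ * x * a = x := mul_inv_eq_one.1 h1
  calc a * x = a * (a⁻¹ * x * a) := by rw [h2]
    _ = x * a := by group

/-- an element `a` with the product property which normalises a nilpotent `p'`-subgroup `Q ≥ C(Q)` and centralises its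
centre is trivial -/
theorem eq_one_of_self {Q : Subgroup K} (hQ : ¬ p ∣ Nat.card Q) (hnil : Group.IsNilpotent Q) {a : K} (ha : orderOf a = p)
    (hn : ∀ k, a * k * a⁻¹ ∈ Q ↔ k ∈ Q) (hP : ∀ k ∈ Q, PE p (a * (k * a * k⁻¹)))
    (hc : ∀ x ∈ Q, (∀ y ∈ Q, x * y = y * x) → a * x = x * a) (hs : (∀ x ∈ Q, a * x = x * a) → a ∈ Q) : False := by
  have h1 := hs (comm_of_kernel hQ hnil hn hP hc)
  apply hQ
  have h2 : orderOf (⟨a, h1⟩ : Q) = p := by rw [Subgroup.orderOf_mk, ha]
  rw [← h2]
  exact orderOf_dvd_natCard _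

omit [Finite K] in
theorem large_isPGroup {Q : Subgroup K} {z : K} (h : Cfsg.Agent.Co2Type.Quad.Large Q z) : IsPGroup 2 Q := by
  intro x
  refine ⟨2, Subtype.ext ?_⟩
  change (x : K) ^ 2 ^ 2 = 1
  have e : (x : K) ^ 2 ^ 2 = ((x : K) * x) * (x * x) := by
    rw [show (2 : ℕ) ^ 2 = 2 + 2 from rfl, pow_add, pow_two]
  rw [e]
  rcases h.sq x x.2 with h1 | h1
  · rw [h1, one_mul]
  · rw [h1, h.z_sq]

/-- **large extraspecial subgroups** -/
theorem false_of_large {Q : Subgroup K} {z : K} (h : Cfsg.Agent.Co2Type.Quad.Large Q z) (hp2 : p ≠ 2)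
    {a : K} (ha : orderOf a = p) (haz : a * z = z * a) (hP : ∀ g : K, PE p (a * (g * a * g⁻¹))) : False := by
  have hf2 : Fact (Nat.Prime 2) := ⟨Nat.prime_two⟩
  have hQ := large_isPGroup h
  have hcQ : ¬ p ∣ Nat.card Q := by
    obtain ⟨n, hn⟩ := IsPGroup.iff_card.1 hQ
    rw [hn]
    intro hd
    exact hp2 ((Nat.prime_dvd_prime_iff_eq hp.out Nat.prime_two).1 (hp.out.dvd_of_dvd_pow hd))
  have haz' : a⁻¹ * z = z * a⁻¹ := by
    have : Commute a z := haz
    exact this.inv_left
  refine eq_one_of_self hcQ (hQ.isNilpotent) ha ?_ (fun k _ => hP k) ?_ (fun h1 => h.self a haz h1)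
  · intro k
    constructor
    · intro hk
      have h2 := h.conj_mem a⁻¹ haz' _ hk
      have e : a⁻¹ * (a * k * a⁻¹) * a⁻¹⁻¹ = k := by group
      rwa [e] at h2
    · exact fun hk => h.conj_mem a haz k hk
  · intro x hx hx2
    rcases h.cent x hx hx2 with rfl | rfl
    · simp
    · exact haz

end Cfsg.Agent.H177.AATools
end

-- part: H177/AARow
section
/-!
# `AA` problem: rows of sporadic groups (helper177)
-/

set_option autoImplicit false

namespace Cfsg.Agent.H177.AARow

open Subgroup Cfsg Cfsg.Agent.H459.Rad Cfsg.Agent.H460.AA Cfsg.Agent.BpTab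

/-- the statement for elements of order `p` -/
def NoA (p : ℕ) (K : Type*) [Group K] : Prop :=
  ∀ a : K, orderOf a = p → RC (MulAut.conj a) → (∀ g : K, PE p (a * (g * a * g⁻¹))) → False

theorem NoA.of_equiv {p : ℕ} {K L : Type*} [Group K] [Group L] [Finite K] (e : K ≃* L) (h : NoA p L) : NoA p K := by
  have hf : Finite L := Finite.of_equiv K e.toEquiv
  intro a ha hR hP
  refine h (e a) (by rw [← ha]; exact orderOf_injective e.toMonoidHom e.injective a) ?_ ?_
  · have h1 := hR.tr e
    have h2 : tr e (MulAut.conj a) = MulAut.conj (e a) := by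
      ext l
      rw [tr_apply]
      simp [mul_assoc]
    rwa [h2] at h1
  · intro g
    obtain ⟨k, hk⟩ := hP (e.symm g)
    refine ⟨k, ?_⟩
    rw [← hk, ← orderOf_injective e.toMonoidHom e.injective]
    simp

/-- a subgroup of index prime to `p` whose order is divisible by `r` -/
theorem noA_two_primes {p r : ℕ} {K : Type*} [Group K] [Finite K] (hp : p.Prime) (hr : r.Prime)
    (hcomm : ∀ x y : K, orderOf x = p → orderOf y = r → x * y ≠ y * x) (k l : ℕ)
    (hk : ¬ p ^ (k + 1) ∣ Nat.card K) (hk' : ∀ i ∈ List.range (k + 1), 0 < i → ¬ r ∣ p ^ i - 1)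
    (hl : ¬ r ^ (l + 1) ∣ Nat.card K) (hl' : ∀ i ∈ List.range (l + 1), 0 < i → ¬ p ∣ r ^ i - 1)
    {H : Subgroup K} (hH : H ≠ ⊤) (hd : r ∣ Nat.card H) (hi : ¬ p ∣ H.index) : NoA p K := by
  have : Fact p.Prime := ⟨hp⟩
  intro a ha hR _
  exact Cfsg.Agent.H177.AATools.false_of_two_primes_index hr
    (Cfsg.Agent.H177.AATools.no_solvable hr hcomm k l hk hk' hl hl') hH hd hi ha hR

/-- a simple subgroup of index prime to `p` -/
theorem noA_simple {p : ℕ} {K : Type*} [Group K] [Finite K] (hp : p.Prime) {H : Subgroup K} (hH : H ≠ ⊤)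
    (hs : IsSimpleGroup H) (hns : ¬ Group.IsSolvable H) (hi : ¬ p ∣ H.index) : NoA p K := by
  have : Fact p.Prime := ⟨hp⟩
  intro a ha hR _
  refine false_of_index hH hi ?_ ha hR
  rw [rad_eq_bot_of_simple hns, Subgroup.card_bot]
  exact hp.one_lt.ne' ∘ Nat.dvd_one.1

theorem core_of_dat {K : Type*} [Group K] {N : ℕ} (D : Cfsg.Agent.BpSpor.Dat K N) {l : List (ℕ × ℕ)}
    (hv : OrdDiv.valid l N = true) (h4 : 4 ∣ N) (hrows : ∀ x ∈ l, x.1 ≠ 2 → x.1.Prime → NoA x.1 K) : Core K := by
  have hfin : Finite K := Nat.finite_of_card_ne_zero (by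
    rw [D.card]
    exact (OrdDiv.valid_pos hv).ne')
  refine core_of_inner (Cfsg.Agent.BpSpor.center_eq_bot_of_card D.simple (by rw [D.card]; exact h4)) ?_ ?_
  · intro p hp hp2 x hx
    exact D.inn p hp.out hp2 x hx
  · intro p hp hp2 a ha hR hP
    have h1 : p ^ 1 ∣ N := by
      rw [pow_one, ← D.card, ← ha]
      exact orderOf_dvd_natCard a
    obtain ⟨k, hk, -⟩ := OrdDiv.exists_pair hv hp.out le_rfl h1
    exact hrows (p, k) hk hp2 hp.out a ha hR hP

end Cfsg.Agent.H177.AARow
end
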