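import Cfsg.Agent.H177.AACo3b_m3
import Cfsg.Agent.H235.AA.Row_m3
import Cfsg.Agent.H792.Sp.ConwayFive
import Cfsg.Agent.TypeM.FactsMcL
import Cfsg.Agent.UGT.End.McLOuter
import Cfsg.Agent.S1582
import Cfsg.Agent.S0283
import Cfsg.Agent.S0280
import Cfsg.Agent.Prune
set_option linter.all false
prune_inst 0x7f00000000000000000000000000000000000000000000000000000000000000000000000000000000000000000000000000000000000000000000000000000000000000000000000000000000000000003fffffffffffffffffffffffffffbeffbdffffffff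
open scoped Cfsg.Agent.FastGrp

/-!
# `AA` problem: `McL` (helper177)
-/

set_option autoImplicit false

namespace Cfsg.Agent.H177.AAMcL

open Subgroup Cfsg Cfsg.Agent.H177.AARow Cfsg.Agent.H177.AARow2 Cfsg.Agent.H460.AA Cfsg.Agent.H459.Rad
open Cfsg.Agent.H177.AACo3b

/-- a proper simple subgroup of index prime to `p`, given by an injection -/
theorem noA_of_hom {p : ℕ} (hp : p.Prime) {K H : Type*} [Group K] [Finite K] [Group H] [Finite H]
    [hs : IsSimpleGroup H] (hH : ¬ (Nat.card H).Prime) (f : H →* K) (hf : Function.Injective f)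
    (hlt : Nat.card H < Nat.card K) (hi : ¬ p ∣ Nat.card K / Nat.card H) : NoA p K := by
  have hc : Nat.card f.range = Nat.card H := (Nat.card_congr (MonoidHom.ofInjective hf).toEquiv).symm
  have hs' : IsSimpleGroup f.range := (MulEquiv.isSimpleGroup_congr (MonoidHom.ofInjective hf)).1 hs
  refine noA_simple hp (H := f.range) ?_ hs' (not_solvable_of_card (by rw [hc]; exact hH)) ?_
  · intro h1
    rw [h1, Subgroup.card_top] at hc
    omega
  · have h := f.range.card_mul_index
    rw [hc] at h
    rw [← h, Nat.mul_div_cancel_left _ Nat.card_pos] at hi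
    exact hi

theorem card_McL : Nat.card Spor.McL = 898128000 := by
  obtain ⟨-, -, h, -⟩ := Cfsg.Agent.TypeM.FactsMcL.facts (M := Spor.McL) ⟨MulEquiv.refl _⟩
  exact h

instance fin_McL : Finite Spor.McL := Nat.finite_of_card_ne_zero (by rw [card_McL]; norm_num)

theorem dat_mcl {K : Type*} [Group K] (h : Spor.IsoMcL K) : Cfsg.Agent.BpSpor.Dat K 898128000 := by
  obtain ⟨hfin, hs, hcard, ⟨L⟩⟩ := Cfsg.Agent.TypeM.FactsMcL.facts h
  refine ⟨hs, hcard, ?_⟩
  intro p hp hp2 α hα
  have h1 : Odd (orderOf α) := by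
    rw [hα]
    exact hp.odd_of_ne_two hp2
  obtain ⟨g, hg⟩ := Cfsg.Agent.UGT.End.McLOuter.inner_of_odd L hcard α h1
  exact ⟨g, hg.symm⟩

/-- the field with nine elements -/
theorem exists_field9 : ∃ (F : Type) (_ : Field F) (_ : Fintype F), Fintype.card F = 9 := by
  have : Fact (Nat.Prime 3) := ⟨Nat.prime_three⟩
  have := Fintype.ofFinite (GaloisField 3 2)
  refine ⟨GaloisField 3 2, inferInstance, this, ?_⟩
  rw [← Nat.card_eq_fintype_card, GaloisField.card 3 2 (by norm_num)]
  norm_num

theorem card_psu9 {F : Type} [Field F] [Fintype F] (hF : Fintype.card F = 9) : Nat.card (PSU 4 F 3) = 3265920 := by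
  have h := Cfsg.Agent.S0280.result (F := F) (q := 3) (by rw [hF]; norm_num) 4 (by norm_num)
  norm_num [Finset.prod_range_succ, Nat.even_iff] at h
  omega

/-- the vectors `(-5, -1 ^ 23)`, `-(4, 4, 0 ^ 22)` -/
theorem pair : sqNorm ((-Spor.leechU : leechLattice) : GolayPt → ℤ) = 32 ∧
    sqNorm ((Spor.leechV - (-Spor.leechU : leechLattice)) : GolayPt → ℤ) = 32 := by
  constructor
  · unfold sqNorm
    rw [Fintype.sum_option]
    decide
  · unfold sqNorm
    rw [Fintype.sum_option]
    decide

theorem hV : sqNorm (Spor.leechV : GolayPt → ℤ) = 48 := by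
  unfold sqNorm
  rw [Fintype.sum_option]
  decide

theorem three : NoA 3 Spor.McL := by
  obtain ⟨F, _, _, hF⟩ := exists_field9
  have hn := (Cfsg.Agent.S1580.result Spor.leechV (-Spor.leechU) hV pair).1
  obtain ⟨x, hx⟩ := Set.nonempty_of_ncard_ne_zero (by rw [hn]; norm_num)
  obtain ⟨e⟩ := Cfsg.Agent.S1582.result Spor.leechV (-Spor.leechU) x hV pair hx F hF
  set W := MulAction.stabilizer Co0 Spor.leechV ⊓ MulAction.stabilizer Co0 (-Spor.leechU) ⊓ MulAction.stabilizer Co0 x with hW
  have hmem : ∀ g : W, ((g : Co0) : Equiv.Perm leechLattice) ∈ Spor.McL := by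
    intro g
    have h1 : (g : Co0) • Spor.leechV = Spor.leechV := g.2.1.1
    have h2 : (g : Co0) • (-Spor.leechU) = -Spor.leechU := g.2.1.2
    rw [Cfsg.Agent.SporadicStructure.Co0Base.co0_smul_neg, neg_inj] at h2
    exact ⟨⟨(g : Co0).2, h1⟩, h2⟩
  let f : W →* Spor.McL := (Co0.subtype.comp W.subtype).codRestrict Spor.McL hmem
  have hf : Function.Injective f := by
    intro a b h
    have h1 := congrArg Subtype.val h
    exact Subtype.ext (Subtype.ext h1)
  have hcard := card_psu9 hF
  have hfin : Finite (PSU 4 F 3) := Nat.finite_of_card_ne_zero (by rw [hcard]; norm_num)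
  have hs : IsSimpleGroup (PSU 4 F 3) := S0283.result (by rw [hF]; norm_num) 4 (by norm_num) (by norm_num)
  refine noA_of_hom Nat.prime_three (by rw [hcard]; norm_num) (f.comp e.symm.toMonoidHom) ?_
    (by rw [hcard, card_McL]; norm_num) (by rw [hcard, card_McL]; norm_num)
  rw [MonoidHom.coe_comp]
  exact hf.comp e.symm.injective

theorem five : NoA 5 Spor.McL := by
  obtain ⟨v, T⟩ := Cfsg.Agent.H792.SpU35.exists_tri_mcl
  obtain ⟨F, _, _, hF⟩ := Cfsg.Agent.H792.SpU35.exists_field
  obtain ⟨e⟩ := T.exists_hom hF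
  set W := MulAction.stabilizer Co0 v ⊓ MulAction.stabilizer Co0 Spor.leechV ⊓ MulAction.stabilizer Co0 Spor.leechU with hW
  have hmem : ∀ g : W, ((g : Co0) : Equiv.Perm leechLattice) ∈ Spor.McL := fun g => ⟨⟨(g : Co0).2, g.2.1.2⟩, g.2.2⟩
  let f : W →* Spor.McL := (Co0.subtype.comp W.subtype).codRestrict Spor.McL hmem
  have hf : Function.Injective f := by
    intro a b h
    have h1 := congrArg Subtype.val h
    exact Subtype.ext (Subtype.ext h1)
  have hcard := Cfsg.Agent.H792.SpU35.card_psu hF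
  have hfin : Finite (PSU 3 F 5) := Nat.finite_of_card_ne_zero (by rw [hcard]; norm_num)
  have hs : IsSimpleGroup (PSU 3 F 5) := S0283.result (by rw [hF]; norm_num) 3 (by norm_num) (by norm_num)
  refine noA_of_hom Nat.prime_five (by rw [hcard]; norm_num) (f.comp e.toMonoidHom) ?_
    (by rw [hcard, card_McL]; norm_num) (by rw [hcard, card_McL]; norm_num)
  rw [MonoidHom.coe_comp]
  exact hf.comp e.injective

theorem core_mcl {K : Type*} [Group K] (h : Spor.IsoMcL K) : Core K := by
  have D := dat_mcl h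
  have hf : Finite K := Nat.finite_of_card_ne_zero (by rw [D.card]; norm_num)
  have e : K ≃* Spor.McL := h.some
  have hs := D.simple
  have hna := Cfsg.Agent.H235.AA.Tools.not_comm_of_card (K := K) (by rw [D.card]; norm_num)
  refine core_of_dat D (l := [(2, 7), (3, 6), (5, 3), (7, 1), (11, 1)])
    (by decide +kernel) (by norm_num) (fun x hx hx2 hp => ?_)
  have hpf : Fact x.1.Prime := ⟨hp⟩
  simp only [List.mem_cons, List.not_mem_nil, or_false] at hx
  rcases hx with rfl | rfl | rfl | rfl | rfl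
  · exact absurd rfl hx2
  · exact three.of_equiv e
  · exact five.of_equiv e
  · exact Cfsg.Agent.H235.AA.Tools.NP.of_not_sq hna hx2 (by rw [D.card]; norm_num)
  · exact Cfsg.Agent.H235.AA.Tools.NP.of_not_sq hna hx2 (by rw [D.card]; norm_num)

end Cfsg.Agent.H177.AAMcL
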