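import Cfsg.Agent.H149.Sp.Leech
import Cfsg.Agent.LThreeCo1.Ranks
import Cfsg.Agent.H177.AARow
import Cfsg.Agent.HN.U35
import Cfsg.Agent.BpSpor.Row.HS
import Cfsg.Agent.Prune
set_option linter.all false
prune_inst 0x7f00000000000000000000000000000000000000000000000000000000000000000000000000000000000000000000000000000000000000000000000000000000000000000000000000000000000000003fffffffffffffffffffffffffffbeffbdffffffff
open scoped Cfsg.Agent.FastGrp

-- part: H177/AALin
section
/-!
# Non-adjacent primes in `Co0`: `3` and `11` (helper177)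
-/

set_option autoImplicit false

namespace Cfsg.Agent.H177.AALin

open Polynomial Module
open Cfsg.Agent.SigZeroCo2.Rank (fix mem_fix)
open Cfsg.Agent.H149.Sp

section Lin

variable {V : Type*} [AddCommGroup V] [Module ℚ V]

theorem range_inv' (f g : End ℚ V) (hc : f * g = g * f) :
    ∀ v ∈ LinearMap.range (f - LinearMap.id), g v ∈ LinearMap.range (f - LinearMap.id) := by
  rintro _ ⟨v, rfl⟩
  refine ⟨g v, ?_⟩
  have h := LinearMap.congr_fun hc v
  simp only [Module.End.mul_apply] at h
  simp [map_sub, h]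

/-- **Two commuting automorphisms of prime orders `p ≠ q`**, the first one with a large fixed space -/
theorem finrank_le_add' [FiniteDimensional ℚ V] {p q : ℕ} (hp : p.Prime) (hq : q.Prime) (hpq : p ≠ q)
    {x y : End ℚ V} (hx : x ^ p = 1) (hy : y ^ q = 1) (hc : x * y = y * x)
    (hbig : finrank ℚ V < finrank ℚ (fix x) + (q - 1) * (p - 1)) :
    finrank ℚ V ≤ finrank ℚ (fix x) + finrank ℚ (fix y) := by
  have hc' : Commute x y := hc
  have hwq : (x * y) ^ q = x ^ q := by rw [hc'.mul_pow, hy, mul_one]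
  have hwp : (x * y) ^ p = y ^ p := by rw [hc'.mul_pow, hx, one_mul]
  have hfy : fix (y ^ p) = fix y := fix_pow_of_coprime hy ((Nat.coprime_primes hp hq).2 hpq)
  have hfx : fix (x ^ q) = fix x := fix_pow_of_coprime hx ((Nat.coprime_primes hq hp).2 (Ne.symm hpq))
  have key : ∀ v, (x ^ q) ((y ^ p) v - v) = (y ^ p) v - v := by
    intro v
    by_contra hne
    set u := (x ^ q) ((y ^ p) v - v) - ((y ^ p) v - v) with hu
    have hu0 : u ≠ 0 := sub_ne_zero.2 hne
    have hue : u = aeval (x * y) ((X ^ q - 1) * (X ^ p - 1) : ℚ[X]) v := by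
      simp only [map_mul, map_sub, aeval_X, map_one, map_pow, hwq, hwp, Module.End.mul_apply,
        LinearMap.sub_apply, Module.End.one_apply]
      rw [hu, map_sub]
      abel
    have hinv : ∀ v ∈ LinearMap.range (x ^ q - LinearMap.id), (x * y) v ∈ LinearMap.range (x ^ q - LinearMap.id) := by
      refine range_inv' (x ^ q) (x * y) ?_
      have h1 : Commute (x ^ q) (x * y) := ((Commute.refl x).pow_left q).mul_right (hc'.pow_left q)
      exact h1
    have h1 := totient_le_of_mem (x * y) _ hinv (Nat.mul_pos hq.pos hp.pos) (u := u) ?_ hu0 ?_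
    · rw [Nat.totient_mul ((Nat.coprime_primes hq hp).2 (Ne.symm hpq)), Nat.totient_prime hq, Nat.totient_prime hp] at h1
      have h2 := finrank_range_add (x ^ q)
      rw [hfx] at h2
      omega
    · exact ⟨(y ^ p) v - v, by rw [hu]; rfl⟩
    · rw [hue, ← Module.End.mul_apply, ← map_mul, CpAutBig.TwoPrimes.cyclotomic_mul hp hq hpq, map_mul]
      have h3 : aeval (x * y) (X ^ (q * p) - 1 : ℚ[X]) = 0 := by
        rw [map_sub, map_pow, aeval_X, map_one, pow_mul, hwq, ← pow_mul, mul_comm q p, pow_mul, hx, one_pow, sub_self]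
      rw [h3, zero_mul, LinearMap.zero_apply]
  have h1 : LinearMap.range (y ^ p - LinearMap.id) ≤ fix x := by
    rintro _ ⟨v, rfl⟩
    rw [← hfx, mem_fix]
    simpa using key v
  have h2 := finrank_range_add (y ^ p)
  rw [hfy] at h2
  have h3 := Submodule.finrank_mono h1
  omega

end Lin

open Cfsg Cfsg.Spor
open Cfsg.Agent.SigZeroCo2.Lin
open Cfsg.Agent.LThreeMB (fr)
open Cfsg.Agent.LThreeBX.NoSeven
open Cfsg.Agent.CoOneType.ClosingFacts

/-- an element of order `3` of `Co0` fixing a nonzero vector has fixed space of dimension `6`, `8` or `12` -/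
theorem fd_three {a : Co0} {v : leechLattice} (hv : v ≠ 0) (hav : a • v = v) (ha : orderOf a = 3) :
    fd a = 6 ∨ fd a = 8 ∨ fd a = 12 := by
  have ha3 : a ^ 3 = 1 := by rw [← ha, pow_orderOf_eq_one]
  have h1 := fr_mk_eq (a := a) (n := 3) (by decide) ha3
  have h2 := orderOf_mk (by norm_num) (by norm_num) ha
  have h3 := Cfsg.Agent.LThreeCo1.Ranks.ranks _ h2
  rw [h1] at h3
  have h4 : 0 < fd a := by
    have hm : toV v ∈ fix (rep a) := by
      rw [mem_fix, rep_toV, hav]
    have hne : toV v ≠ 0 := by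
      intro h
      rw [← toV_zero] at h
      exact hv (toV_injective h)
    have : Nontrivial (fix (rep a)) := ⟨⟨⟨toV v, hm⟩, 0, fun h => hne (congrArg Subtype.val h)⟩⟩
    exact Module.finrank_pos
  rcases h3 with h3 | h3 | h3 | h3
  · have : fd a = 0 := by
      by_contra h0
      have := Nat.one_lt_two_pow h0
      omega
    omega
  · exact Or.inl (Nat.pow_right_injective le_rfl h3)
  · exact Or.inr (Or.inl (Nat.pow_right_injective le_rfl h3))
  · exact Or.inr (Or.inr (Nat.pow_right_injective le_rfl h3))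

/-- **Elements of order `3` fixing a nonzero vector commute with no element of order `11`.** -/
theorem not_comm_three_eleven {a b : Co0} {v : leechLattice} (hv : v ≠ 0) (hav : a • v = v) (ha : orderOf a = 3)
    (hb : orderOf b = 11) : a * b ≠ b * a := by
  intro hc
  have h1 := fd_three hv hav ha
  have h2 : fd b ≤ B 11 := fd_le (Or.inr (Or.inr (Or.inl rfl))) hb
  have h3 := finrank_le_add' (p := 3) (q := 11) (by norm_num) (by norm_num) (by norm_num) (x := rep a) (y := rep b)
    (by rw [← map_pow, ← ha, pow_orderOf_eq_one, map_one]) (by rw [← map_pow, ← hb, pow_orderOf_eq_one, map_one])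
    (by rw [← map_mul, hc, map_mul]) (by
      rw [finrank_Sp]
      unfold fd at h1
      omega)
  rw [finrank_Sp] at h3
  unfold fd at h1 h2
  simp [B] at h2
  omega

end Cfsg.Agent.H177.AALin
end

-- part: H177/AAHS
section
/-!
# `AA` problem: the Higman-Sims group (helper177)
-/

set_option autoImplicit false

namespace Cfsg.Agent.H177.AAHS

open Subgroup Cfsg Cfsg.Agent.H177.AARow Cfsg.Agent.H460.AA Cfsg.Agent.H459.Rad

/-- elements of a subgroup of `Perm leechLattice` contained in `Co0` -/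
theorem order_incl {H : Subgroup (Equiv.Perm leechLattice)} (hH : H ≤ Co0) (x : H) :
    orderOf (⟨x, hH x.2⟩ : Co0) = orderOf x := by
  rw [← Subgroup.orderOf_coe x, Subgroup.orderOf_mk]

theorem HS_le : Spor.HS ≤ Co0 := fun _ hx => hx.1.1

theorem leechV_ne : Spor.leechV ≠ 0 := by
  intro h
  have h1 := congrFun (congrArg Subtype.val h) none
  revert h1
  decide

theorem HS_fix (x : Spor.HS) : (⟨x, HS_le x.2⟩ : Co0) • Spor.leechV = Spor.leechV := x.2.1.2

/-- non-adjacent pairs of primes in `HS` -/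
theorem ncomm {x y : Spor.HS} {p q : ℕ} (h : (p = 3 ∧ q = 11) ∨ (p = 7 ∧ q = 11) ∨ (p = 5 ∧ q = 7)) (hx : orderOf x = p)
    (hy : orderOf y = q) : x * y ≠ y * x := by
  intro hc
  have hx' := order_incl HS_le x
  have hy' := order_incl HS_le y
  rw [hx] at hx'
  rw [hy] at hy'
  have hc' : (⟨x, HS_le x.2⟩ : Co0) * ⟨y, HS_le y.2⟩ = ⟨y, HS_le y.2⟩ * ⟨x, HS_le x.2⟩ :=
    Subtype.ext (congrArg (fun z : Spor.HS => (z : Equiv.Perm leechLattice)) hc)
  rcases h with ⟨rfl, rfl⟩ | ⟨rfl, rfl⟩ | ⟨rfl, rfl⟩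
  · exact Cfsg.Agent.H177.AALin.not_comm_three_eleven leechV_ne (HS_fix x) hx' hy' hc'
  · exact Cfsg.Agent.H149.Sp.co0_not_comm (Or.inr (Or.inl rfl)) (Or.inr (Or.inr (Or.inl rfl))) (by norm_num) (by norm_num)
      hx' hy' hc'
  · exact Cfsg.Agent.H149.Sp.co0_not_comm_fix leechV_ne (HS_fix x) (HS_fix y) hx' hy' hc'

open Cfsg.Agent.HN.HS100 Cfsg.Agent.HN.AutHS

theorem ncommQ {x y : Q} {p q : ℕ} (h : (p = 3 ∧ q = 11) ∨ (p = 7 ∧ q = 11) ∨ (p = 5 ∧ q = 7)) (hx : orderOf x = p)
    (hy : orderOf y = q) : x * y ≠ y * x := by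
  obtain ⟨f⟩ := nonempty_Q.1
  intro hc
  exact ncomm h (by rw [← hx]; exact orderOf_injective f.toMonoidHom f.injective x)
    (by rw [← hy]; exact orderOf_injective f.toMonoidHom f.injective y) (by rw [← map_mul, hc, map_mul])

theorem finQ : Finite Q := Nat.finite_of_card_ne_zero (by rw [Cfsg.Agent.HN.AutBound.card_Q]; norm_num)

/-- the point stabiliser -/
def St : Subgroup Q := MulAction.stabilizer Q (0 : Fin 100)

theorem index_St : St.index = 100 := by
  have := trans_Q
  have h := MulAction.index_stabilizer_of_transitive Q (0 : Fin 100)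
  rw [Nat.card_eq_fintype_card, Fintype.card_fin] at h
  exact h

theorem card_St : Nat.card St = 443520 := by
  have h := St.card_mul_index
  rw [index_St, Cfsg.Agent.HN.AutBound.card_Q] at h
  omega

theorem St_ne : St ≠ ⊤ := by
  intro h
  have h1 := index_St
  rw [h, Subgroup.index_top] at h1
  norm_num at h1

/-- the subgroup `U3(5)` -/
def Un : Subgroup Q := Cfsg.Agent.HN.U35.U0.subgroupOf Q

theorem U0_le : Cfsg.Agent.HN.U35.U0 ≤ Q := by
  rw [Cfsg.Agent.HN.U35.U0_eq]
  exact fun x hx => hx.1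

theorem card_Un : Nat.card Un = 126000 := by
  rw [← Cfsg.Agent.HN.U35.card_U0]
  exact Nat.card_congr (Subgroup.subgroupOfEquivOfLe U0_le).toEquiv

theorem index_Un : Un.index = 352 := by
  have h := Un.card_mul_index
  rw [card_Un, Cfsg.Agent.HN.AutBound.card_Q] at h
  omega

theorem Un_ne : Un ≠ ⊤ := by
  intro h
  have h1 := index_Un
  rw [h, Subgroup.index_top] at h1
  norm_num at h1

theorem three : NoA 3 Q := by
  have := finQ
  refine noA_two_primes (r := 11) (by norm_num) (by norm_num) (fun x y hx hy => ncommQ (Or.inl ⟨rfl, rfl⟩) hx hy) 2 1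
    ?_ (by decide) ?_ (by decide) St_ne ?_ ?_
  · rw [Cfsg.Agent.HN.AutBound.card_Q]; norm_num
  · rw [Cfsg.Agent.HN.AutBound.card_Q]; norm_num
  · rw [card_St]; norm_num
  · rw [index_St]; norm_num

theorem seven : NoA 7 Q := by
  have := finQ
  refine noA_two_primes (r := 11) (by norm_num) (by norm_num) (fun x y hx hy => ncommQ (Or.inr (Or.inl ⟨rfl, rfl⟩)) hx hy)
    1 1 ?_ (by decide) ?_ (by decide) St_ne ?_ ?_
  · rw [Cfsg.Agent.HN.AutBound.card_Q]; norm_num
  · rw [Cfsg.Agent.HN.AutBound.card_Q]; norm_num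
  · rw [card_St]; norm_num
  · rw [index_St]; norm_num

theorem eleven : NoA 11 Q := by
  have := finQ
  refine noA_two_primes (r := 7) (by norm_num) (by norm_num)
    (fun x y hx hy => (ncommQ (Or.inr (Or.inl ⟨rfl, rfl⟩)) hy hx).symm)
    1 1 ?_ (by decide) ?_ (by decide) St_ne ?_ ?_
  · rw [Cfsg.Agent.HN.AutBound.card_Q]; norm_num
  · rw [Cfsg.Agent.HN.AutBound.card_Q]; norm_num
  · rw [card_St]; norm_num
  · rw [index_St]; norm_num

theorem five : NoA 5 Q := by
  have := finQ
  refine noA_two_primes (r := 7) (by norm_num) (by norm_num)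
    (fun x y hx hy => (ncommQ (Or.inr (Or.inr ⟨rfl, rfl⟩)) hx hy))
    3 1 ?_ (by decide) ?_ (by decide) Un_ne ?_ ?_
  · rw [Cfsg.Agent.HN.AutBound.card_Q]; norm_num
  · rw [Cfsg.Agent.HN.AutBound.card_Q]; norm_num
  · rw [card_Un]; norm_num
  · rw [index_Un]; norm_num

theorem core_hs {K : Type*} [Group K] (h : Spor.IsoHS K) : Core K := by
  have hf : Finite K := Nat.finite_of_card_ne_zero (by
    rw [(Cfsg.Agent.BpSpor.Row.dat_hs h).card]; norm_num)
  obtain ⟨f⟩ := nonempty_Q.1
  have e : K ≃* Q := h.some.trans f.symm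
  refine core_of_dat (Cfsg.Agent.BpSpor.Row.dat_hs h) (l := [(2, 9), (3, 2), (5, 3), (7, 1), (11, 1)])
    (by decide +kernel) (by norm_num) (fun x hx hx2 _ => ?_)
  simp only [List.mem_cons, List.not_mem_nil, or_false] at hx
  rcases hx with rfl | rfl | rfl | rfl | rfl
  · exact absurd rfl hx2
  · exact three.of_equiv e
  · exact five.of_equiv e
  · exact seven.of_equiv e
  · exact eleven.of_equiv e

end Cfsg.Agent.H177.AAHS
end
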