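import Mathlib
import Cfsg.Agent.H177.InvolGroup
import Cfsg.Agent.LieClassical.OrthForms
set_option linter.all false

-- part: H177/InvolExist
section
/-!
# Existence of involutions of `isometryGroup F Q` in characteristic two, and bounds
-/

set_option autoImplicit false
set_option linter.unusedSectionVars false

namespace Cfsg.Agent.H177.InvolExist

open QuadraticMap Matrix Module
open Cfsg.Agent.ClassicalGeometry.Reflection
open Cfsg.Agent.ClassicalGeometry.OrthCharTwo
open Cfsg.Agent.H177.InvolGroup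

variable {ι : Type} [Fintype ι] [DecidableEq ι] {F : Type*} [Field F]
variable (Q : QuadraticForm F (ι → F))

/-- the Gram map of a family -/
def gramMap {κ : Type*} (v : κ → ι → F) : (ι → F) →ₗ[F] (κ → F) :=
  LinearMap.pi fun j => polarBilin Q (v j)

theorem gramMap_apply {κ : Type*} (v : κ → ι → F) (x : ι → F) (j : κ) :
    gramMap Q v x j = polar Q (v j) x := rfl

theorem gramMap_surjective (hQ : (polarBilin Q).Nondegenerate) {κ : Type*} [Fintype κ]
    (v : κ → ι → F) (hli : LinearIndependent F v) : Function.Surjective (gramMap Q v) := by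
  rw [← LinearMap.range_eq_top]
  apply Submodule.eq_top_of_finrank_eq
  have h1 := LinearMap.finrank_range_add_finrank_ker (gramMap Q v)
  have h2 : LinearMap.ker (gramMap Q v)
      = LinearMap.BilinForm.orthogonal (polarBilin Q) (Submodule.span F (Set.range v)) := by
    ext x
    rw [LinearMap.mem_ker, LinearMap.BilinForm.mem_orthogonal_iff]
    constructor
    · intro h
      have h3 : Submodule.span F (Set.range v) ≤ LinearMap.ker ((polarBilin Q).flip x) := by
        rw [Submodule.span_le]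
        rintro _ ⟨j, rfl⟩
        rw [SetLike.mem_coe, LinearMap.mem_ker, LinearMap.flip_apply]
        exact congrFun h j
      intro y hy
      exact h3 hy
    · intro h
      funext j
      exact h _ (Submodule.subset_span ⟨j, rfl⟩)
  have h3 := LinearMap.BilinForm.finrank_orthogonal hQ (Submodule.span F (Set.range v))
  rw [← h2, finrank_span_eq_card hli] at h3
  have h4 : Fintype.card κ ≤ finrank F (ι → F) := hli.fintype_card_le_finrank
  rw [finrank_fintype_fun_eq_card (R := F) (η := κ)]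
  omega

/-- **Construction of involutions**: `N x = Σ_j (C (f(v_i, x))_i)_j v_j`. -/
theorem exists_invol [CharP F 2] (hQ : (polarBilin Q).Nondegenerate) {κ : Type*} [Fintype κ]
    (v : κ → ι → F) (hli : LinearIndependent F v) (horth : ∀ i j, polar Q (v i) (v j) = 0)
    (C : (κ → F) ≃ₗ[F] (κ → F))
    (hC : ∀ c : κ → F, Q (∑ j, C c j • v j) + ∑ j, C c j * c j = 0) :
    ∃ g : Cfsg.isometryGroup F (⇑Q), g * g = 1 ∧ resSp g = Submodule.span F (Set.range v) := by
  let R : (κ → F) →ₗ[F] (ι → F) := Fintype.linearCombination F v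
  have hR : ∀ c, R c = ∑ j, c j • v j := fun c => Fintype.linearCombination_apply F v c
  let N : (ι → F) →ₗ[F] (ι → F) := R ∘ₗ (C : (κ → F) →ₗ[F] (κ → F)) ∘ₗ gramMap Q v
  have hN : ∀ x, N x = ∑ j, C (gramMap Q v x) j • v j := fun x => hR _
  have hpol : ∀ (x : ι → F) (c : κ → F), polar Q x (∑ j, c j • v j) = ∑ j, c j * polar Q x (v j) := by
    intro x c
    have : polarBilin Q x (∑ j, c j • v j) = ∑ j, c j * polarBilin Q x (v j) := by
      rw [map_sum]
      exact Finset.sum_congr rfl fun j _ => by rw [map_smul, smul_eq_mul]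
    exact this
  have hNN : ∀ x, N (N x) = 0 := by
    intro x
    have h1 : gramMap Q v (N x) = 0 := by
      funext i
      rw [gramMap_apply, hN, hpol]
      exact Finset.sum_eq_zero fun j _ => by rw [horth, mul_zero]
    rw [hN (N x), h1, map_zero]
    simp
  have hQN : ∀ x, Q (x + N x) = Q x := by
    intro x
    rw [map_add', hN, hpol, add_assoc]
    have h1 := hC (gramMap Q v x)
    have h2 : ∑ j, C (gramMap Q v x) j * polar Q x (v j)
        = ∑ j, C (gramMap Q v x) j * gramMap Q v x j :=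
      Finset.sum_congr rfl fun j _ => by rw [gramMap_apply, polar_comm]
    rw [h2, h1, add_zero]
  obtain ⟨e, he, hee⟩ := Cfsg.Agent.ClassicalGeometry.WittQuad.exists_equiv Q hQ
    (LinearMap.id + N) (fun x => hQN x)
  obtain ⟨g, hg⟩ := exists_iso (⇑Q) e he
  have hgx : ∀ x, act g x = x + N x := fun x => by rw [hg, hee]; rfl
  refine ⟨g, ?_, ?_⟩
  · apply act_ext
    intro x
    rw [act_mul, act_one, hgx, hgx, map_add, hNN, add_zero, add_assoc, ← sub_eq_add_two (N x),
      sub_self, add_zero]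
  · ext y
    rw [mem_resSp]
    have h1 : Submodule.span F (Set.range v) = LinearMap.range R :=
      (Fintype.range_linearCombination F v).symm
    rw [h1, LinearMap.mem_range]
    constructor
    · rintro ⟨x, rfl⟩
      refine ⟨C (gramMap Q v x), ?_⟩
      rw [hgx, add_sub_cancel_left]
      rfl
    · rintro ⟨c, rfl⟩
      obtain ⟨x, hx⟩ := gramMap_surjective Q hQ v hli (C.symm c)
      refine ⟨x, ?_⟩
      rw [hgx, add_sub_cancel_left]
      change R (C (gramMap Q v x)) = R c
      rw [hx, LinearEquiv.apply_symm_apply]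

theorem Q_sum_of_orth {κ : Type*} [Fintype κ] (v : κ → ι → F)
    (horth : ∀ i j, i ≠ j → polar Q (v i) (v j) = 0) (c : κ → F) :
    Q (∑ j, c j • v j) = ∑ j, c j * c j * Q (v j) := by
  classical
  rw [QuadraticMap.map_sum]
  have h1 : ∑ ij ∈ (Finset.univ : Finset κ).sym2 with ¬ ij.IsDiag,
      QuadraticMap.polarSym2 Q (ij.map fun i => c i • v i) = 0 := by
    apply Finset.sum_eq_zero
    intro ij hij
    induction ij with
    | _ i j =>
      have hne : i ≠ j := by
        rintro rfl
        simp at hij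
      rw [Sym2.map_mk, QuadraticMap.polarSym2_sym2Mk, polar_smul_left, polar_smul_right,
        horth i j hne]
      simp
  rw [h1, add_zero]
  exact Finset.sum_congr rfl fun j _ => by rw [QuadraticMap.map_smul, smul_eq_mul]

/-- involutions with residual space spanned by orthogonal vectors with `Q = 1` -/
theorem exists_nonalt [CharP F 2] (hQ : (polarBilin Q).Nondegenerate) {κ : Type*} [Fintype κ]
    (v : κ → ι → F) (hli : LinearIndependent F v) (horth : ∀ i j, polar Q (v i) (v j) = 0)
    (hv : ∀ i, Q (v i) = 1) :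
    ∃ g : Cfsg.isometryGroup F (⇑Q), g * g = 1 ∧ resSp g = Submodule.span F (Set.range v) := by
  refine exists_invol Q hQ v hli horth (LinearEquiv.refl F _) fun c => ?_
  simp only [LinearEquiv.refl_apply]
  rw [Q_sum_of_orth Q v fun i j _ => horth i j]
  have h1 : ∑ j, c j * c j * Q (v j) = ∑ j, c j * c j :=
    Finset.sum_congr rfl fun j _ => by rw [hv, mul_one]
  rw [h1, ← two_mul, CharTwo.two_eq_zero, zero_mul]

/-- involutions with totally singular residual space spanned by `2r` vectors -/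
theorem exists_alt [CharP F 2] (hQ : (polarBilin Q).Nondegenerate) {κ : Type*} [Fintype κ]
    (v : κ ⊕ κ → ι → F) (hli : LinearIndependent F v) (horth : ∀ i j, polar Q (v i) (v j) = 0)
    (hv : ∀ i, Q (v i) = 0) :
    ∃ g : Cfsg.isometryGroup F (⇑Q), g * g = 1 ∧ resSp g = Submodule.span F (Set.range v) := by
  refine exists_invol Q hQ v hli horth (LinearEquiv.funCongrLeft F F (Equiv.sumComm κ κ)) fun c => ?_
  rw [Q_sum_of_orth Q v fun i j _ => horth i j]
  rw [Finset.sum_eq_zero fun j _ => by rw [hv, mul_zero], zero_add, Fintype.sum_sum_type]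
  simp only [LinearEquiv.funCongrLeft_apply, LinearMap.funLeft_apply, Equiv.sumComm_apply,
    Sum.swap_inl, Sum.swap_inr]
  have h1 : ∑ x, c (Sum.inl x) * c (Sum.inr x) = ∑ x, c (Sum.inr x) * c (Sum.inl x) :=
    Finset.sum_congr rfl fun j _ => mul_comm _ _
  rw [h1, ← two_mul, CharTwo.two_eq_zero, zero_mul]

end Cfsg.Agent.H177.InvolExist
end

-- part: H177/InvolCount
section
/-!
# Counting conjugacy classes of involutions of `isometryGroup F Q` in characteristic two
-/

set_option autoImplicit false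
set_option linter.unusedSectionVars false

namespace Cfsg.Agent.H177.InvolCount

open QuadraticMap Matrix Module
open Cfsg.Agent.ClassicalGeometry.Reflection
open Cfsg.Agent.ClassicalGeometry.OrthCharTwo
open Cfsg.Agent.H177.InvolGroup
open Cfsg.Agent.H177.InvolExist

/-- Counting classes by representatives. -/
theorem card_classes_eq {G X : Type*} [Group G] (P : G → Prop) (w : X → G) (hw : ∀ x, P (w x))
    (hinj : ∀ x y, IsConj (w x) (w y) → x = y) (hsurj : ∀ g, P g → ∃ x, IsConj (w x) g) :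
    Nat.card {C : ConjClasses G // ∃ g, ConjClasses.mk g = C ∧ P g} = Nat.card X := by
  symm
  apply Nat.card_eq_of_bijective (fun x => (⟨ConjClasses.mk (w x), w x, rfl, hw x⟩ :
    {C : ConjClasses G // ∃ g, ConjClasses.mk g = C ∧ P g}))
  constructor
  · intro x y hxy
    exact hinj x y (ConjClasses.mk_eq_mk_iff_isConj.1 (congrArg Subtype.val hxy))
  · rintro ⟨_, g, rfl, hg⟩
    obtain ⟨x, hx⟩ := hsurj g hg
    exact ⟨x, Subtype.ext (ConjClasses.mk_eq_mk_iff_isConj.2 hx)⟩

theorem orderOf_eq_two_iff {G : Type*} [Group G] (g : G) :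
    orderOf g = 2 ↔ g * g = 1 ∧ g ≠ 1 := by
  haveI : Fact (Nat.Prime 2) := ⟨Nat.prime_two⟩
  rw [orderOf_eq_prime_iff, pow_two]

variable {ι : Type} [Fintype ι] [DecidableEq ι] {F : Type*} [Field F]
variable (Q : QuadraticForm F (ι → F))

theorem resSp_eq_bot_iff {Q : (ι → F) → F} (g : Cfsg.isometryGroup F Q) :
    resSp g = ⊥ ↔ g = 1 := by
  constructor
  · intro h
    apply act_ext
    intro x
    have h1 : act g x - x ∈ resSp g := ⟨x, rfl⟩
    rw [h, Submodule.mem_bot, sub_eq_zero] at h1
    rw [h1, act_one]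
  · rintro rfl
    rw [eq_bot_iff]
    rintro _ ⟨x, rfl⟩
    rw [act_one, sub_self]
    exact Submodule.zero_mem _

theorem finrank_resSp_pos {Q : (ι → F) → F} (g : Cfsg.isometryGroup F Q) :
    0 < finrank F (resSp g) ↔ g ≠ 1 := by
  rw [Ne, ← resSp_eq_bot_iff g, Nat.pos_iff_ne_zero, Ne, Submodule.finrank_eq_zero]

theorem res_le_fix [CharP F 2] (g : Cfsg.isometryGroup F (⇑Q)) (hg : g * g = 1) :
    resSp g ≤ fixSp g := by
  rw [← range_nMap, ← ker_nMap]
  rintro _ ⟨x, rfl⟩
  exact nMap_nMap Q g hg x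

theorem two_mul_finrank_res_le [CharP F 2] (g : Cfsg.isometryGroup F (⇑Q)) (hg : g * g = 1) :
    2 * finrank F (resSp g) ≤ Fintype.card ι := by
  have h1 := finrank_res_add_fix g
  have h2 := Submodule.finrank_mono (res_le_fix Q g hg)
  omega

theorem even_of_alt [CharP F 2] (hQ : (polarBilin Q).Nondegenerate)
    (g : Cfsg.isometryGroup F (⇑Q)) (hg : g * g = 1) (ha : Alt g) :
    Even (finrank F (resSp g)) := by
  obtain ⟨γ, hγ, h1, hS, h2⟩ := Cfsg.Agent.H177.InvolOrth.exists_gamma Q (nMap g)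
    (nMap_nMap Q g hg) (Q_add_nMap Q g) hQ
  have hA : γ.IsAlt := by
    intro m
    rw [h2]
    apply ha
    rw [← range_nMap]
    exact m.2
  obtain ⟨r, b, hr, -⟩ := Cfsg.Agent.H177.InvolOrth.exists_symplectic_basis γ hA hγ
  rw [← range_nMap, hr]
  exact even_two_mul r

theorem alt_of_span {κ : Type*} [Fintype κ] (v : κ → ι → F)
    (horth : ∀ i j, polar Q (v i) (v j) = 0) (hv : ∀ i, Q (v i) = 0)
    (g : Cfsg.isometryGroup F (⇑Q)) (hg : resSp g = Submodule.span F (Set.range v)) : Alt g := by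
  intro x hx
  rw [hg, Submodule.mem_span_range_iff_exists_fun] at hx
  obtain ⟨c, rfl⟩ := hx
  rw [Q_sum_of_orth Q v fun i j _ => horth i j]
  exact Finset.sum_eq_zero fun j _ => by rw [hv, mul_zero]

/-- an involution of rank `s`, not of alternating type -/
theorem exists_nonalt_rank [CharP F 2] (hQ : (polarBilin Q).Nondegenerate) {k : ℕ}
    (v : Fin k → ι → F) (hli : LinearIndependent F v) (horth : ∀ i j, polar Q (v i) (v j) = 0)
    (hv : ∀ i, Q (v i) = 1) (s : ℕ) (hs : 1 ≤ s) (hsk : s ≤ k) :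
    ∃ g : Cfsg.isometryGroup F (⇑Q), g * g = 1 ∧ finrank F (resSp g) = s ∧ ¬ Alt g := by
  have hli' : LinearIndependent F fun i : Fin s => v (Fin.castLE hsk i) :=
    hli.comp _ (Fin.castLE_injective hsk)
  obtain ⟨g, hg, hr⟩ := exists_nonalt Q hQ (fun i : Fin s => v (Fin.castLE hsk i)) hli'
    (fun i j => horth _ _) (fun i => hv _)
  refine ⟨g, hg, ?_, ?_⟩
  · rw [hr, finrank_span_eq_card hli', Fintype.card_fin]
  · intro ha
    have h1 := ha (v (Fin.castLE hsk ⟨0, hs⟩)) (by
      rw [hr]
      exact Submodule.subset_span ⟨⟨0, hs⟩, rfl⟩)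
    rw [hv] at h1
    exact one_ne_zero h1

/-- an involution of rank `2r` of alternating type -/
theorem exists_alt_rank [CharP F 2] (hQ : (polarBilin Q).Nondegenerate) {k : ℕ}
    (v : Fin k → ι → F) (hli : LinearIndependent F v) (horth : ∀ i j, polar Q (v i) (v j) = 0)
    (hv : ∀ i, Q (v i) = 0) (r : ℕ) (hrk : 2 * r ≤ k) :
    ∃ g : Cfsg.isometryGroup F (⇑Q), g * g = 1 ∧ finrank F (resSp g) = 2 * r ∧ Alt g := by
  let e : Fin r ⊕ Fin r → Fin k := fun x => Fin.castLE hrk (Fin.cast (by omega) (finSumFinEquiv x))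
  have he : Function.Injective e := by
    intro x y hxy
    have h1 := Fin.castLE_injective hrk hxy
    have h2 := Fin.cast_injective _ h1
    exact finSumFinEquiv.injective h2
  have hli' : LinearIndependent F fun i => v (e i) := hli.comp _ he
  obtain ⟨g, hg, hr⟩ := exists_alt Q hQ (fun i => v (e i)) hli'
    (fun i j => horth _ _) (fun i => hv _)
  refine ⟨g, hg, ?_, ?_⟩
  · rw [hr, finrank_span_eq_card hli', Fintype.card_sum, Fintype.card_fin, two_mul]
  · exact alt_of_span Q (fun i => v (e i)) (fun i j => horth _ _) (fun i => hv _) g hr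

/-- **Counting the classes of involutions of the full orthogonal group**: `k` = number of ranks of
non-alternating type, `l` = number of (even) ranks of alternating type. -/
theorem card_classes_O [Finite F] [CharP F 2] (hQ : (polarBilin Q).Nondegenerate) (k l : ℕ)
    (h1 : ∀ s, 1 ≤ s → s ≤ k →
      ∃ g : Cfsg.isometryGroup F (⇑Q), g * g = 1 ∧ finrank F (resSp g) = s ∧ ¬ Alt g)
    (h2 : ∀ r, 1 ≤ r → r ≤ l →
      ∃ g : Cfsg.isometryGroup F (⇑Q), g * g = 1 ∧ finrank F (resSp g) = 2 * r ∧ Alt g)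
    (h3 : ∀ g : Cfsg.isometryGroup F (⇑Q), g * g = 1 → finrank F (resSp g) ≤ k)
    (h4 : ∀ g : Cfsg.isometryGroup F (⇑Q), g * g = 1 → Alt g → finrank F (resSp g) ≤ 2 * l) :
    Nat.card {C : ConjClasses ↥(Cfsg.isometryGroup F (⇑Q)) //
      ∃ g : ↥(Cfsg.isometryGroup F (⇑Q)), ConjClasses.mk g = C ∧ orderOf g = 2} = k + l := by
  have h1' : ∀ i : Fin k, ∃ g : Cfsg.isometryGroup F (⇑Q),
      g * g = 1 ∧ finrank F (resSp g) = i.1 + 1 ∧ ¬ Alt g :=
    fun i => h1 (i.1 + 1) (by omega) (by omega)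
  have h2' : ∀ i : Fin l, ∃ g : Cfsg.isometryGroup F (⇑Q),
      g * g = 1 ∧ finrank F (resSp g) = 2 * (i.1 + 1) ∧ Alt g :=
    fun i => h2 (i.1 + 1) (by omega) (by omega)
  choose a ha1 ha2 ha3 using h1'
  choose b hb1 hb2 hb3 using h2'
  rw [card_classes_eq (fun g : Cfsg.isometryGroup F (⇑Q) => orderOf g = 2) (Sum.elim a b)]
  · rw [Nat.card_sum, Nat.card_fin, Nat.card_fin]
  · rintro (i | i)
    · rw [Sum.elim_inl, orderOf_eq_two_iff, ← finrank_resSp_pos]
      exact ⟨ha1 i, by rw [ha2]; omega⟩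
    · rw [Sum.elim_inr, orderOf_eq_two_iff, ← finrank_resSp_pos]
      exact ⟨hb1 i, by rw [hb2]; omega⟩
  · rintro (i | i) (j | j) hij
    · rw [Sum.elim_inl, Sum.elim_inl, isConj_iff_rank_alt Q hQ _ _ (ha1 i) (ha1 j), ha2, ha2] at hij
      congr 1
      apply Fin.ext
      omega
    · rw [Sum.elim_inl, Sum.elim_inr, isConj_iff_rank_alt Q hQ _ _ (ha1 i) (hb1 j)] at hij
      exact absurd (hij.2.2 (hb3 j)) (ha3 i)
    · rw [Sum.elim_inr, Sum.elim_inl, isConj_iff_rank_alt Q hQ _ _ (hb1 i) (ha1 j)] at hij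
      exact absurd (hij.2.1 (hb3 i)) (ha3 j)
    · rw [Sum.elim_inr, Sum.elim_inr, isConj_iff_rank_alt Q hQ _ _ (hb1 i) (hb1 j), hb2, hb2] at hij
      congr 1
      apply Fin.ext
      omega
  · intro g hg
    rw [orderOf_eq_two_iff, ← finrank_resSp_pos] at hg
    obtain ⟨hg1, hg2⟩ := hg
    by_cases hA : Alt g
    · obtain ⟨r, hr⟩ := even_of_alt Q hQ g hg1 hA
      have h5 := h4 g hg1 hA
      refine ⟨Sum.inr ⟨r - 1, by omega⟩, ?_⟩
      rw [Sum.elim_inr, isConj_iff_rank_alt Q hQ _ _ (hb1 _) hg1]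
      refine ⟨?_, fun _ => hA, fun _ => hb3 _⟩
      rw [hb2, hr]
      simp only
      omega
    · have h5 := h3 g hg1
      refine ⟨Sum.inl ⟨finrank F (resSp g) - 1, by omega⟩, ?_⟩
      rw [Sum.elim_inl, isConj_iff_rank_alt Q hQ _ _ (ha1 _) hg1]
      refine ⟨?_, fun h => absurd h (ha3 _), fun h => absurd h hA⟩
      rw [ha2]
      simp only
      omega

end Cfsg.Agent.H177.InvolCount
end

-- part: H177/InvolForms
section
/-!
# The forms `quadFormPlus`, `quadFormMinus` in characteristic two: families of vectors, Witt index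
-/

set_option autoImplicit false
set_option linter.unusedSectionVars false

namespace Cfsg.Agent.H177.InvolForms

open QuadraticMap Matrix Module
open Cfsg.Agent.ClassicalGeometry.Reflection
open Cfsg.Agent.ClassicalGeometry.OrthCharTwo
open Cfsg.Agent.H177.InvolGroup
open Cfsg.Agent.H177.InvolExist
open Cfsg.Agent.H177.InvolCount
open Cfsg.Agent.LieClassical.OrthForms

variable {ι : Type} [Fintype ι] [DecidableEq ι] {F : Type*} [Field F]

theorem nondegenerate_of_nondeg (Q : QuadraticForm F (ι → F))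
    (h : ∀ x : ι → F, (∀ y : ι → F, polar Q x y = 0) → x = 0) : (polarBilin Q).Nondegenerate :=
  ⟨h, fun x hx => h x fun y => by rw [polar_comm]; exact hx y⟩

/-! ### plus type -/

theorem plus_nondegenerate (m : ℕ) (F : Type*) [Field F] :
    (polarBilin (plusForm m F)).Nondegenerate :=
  nondegenerate_of_nondeg _ (nondeg_plusForm m F)

/-- the singular vectors `x_i` -/
def px (m : ℕ) (F : Type*) [Field F] (i : Fin m) : Fin m ⊕ Fin m → F := Pi.single (Sum.inl i) 1

/-- the vectors `x_i + y_i` -/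
def pxy (m : ℕ) (F : Type*) [Field F] (i : Fin m) : Fin m ⊕ Fin m → F :=
  Pi.single (Sum.inl i) 1 + Pi.single (Sum.inr i) 1

theorem linearIndependent_px (m : ℕ) : LinearIndependent F (px m F) := by
  rw [Fintype.linearIndependent_iff]
  intro c hc i
  have h1 := congrFun hc (Sum.inl i)
  simpa [px, Finset.sum_apply, Pi.single_apply] using h1

theorem linearIndependent_pxy (m : ℕ) : LinearIndependent F (pxy m F) := by
  rw [Fintype.linearIndependent_iff]
  intro c hc i
  have h1 := congrFun hc (Sum.inl i)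
  simpa [pxy, Finset.sum_apply, Pi.single_apply] using h1

theorem polar_px (m : ℕ) (i j : Fin m) : polar (plusForm m F) (px m F i) (px m F j) = 0 := by
  rw [polar_plusForm]
  simp [px]

theorem Q_px (m : ℕ) (i : Fin m) : plusForm m F (px m F i) = 0 := by
  rw [coe_plusForm, quadFormPlus_apply]
  simp [px]

theorem polar_pxy [CharP F 2] (m : ℕ) (i j : Fin m) :
    polar (plusForm m F) (pxy m F i) (pxy m F j) = 0 := by
  rw [polar_plusForm]
  apply Finset.sum_eq_zero
  intro x _
  simp only [pxy, Pi.add_apply, Pi.single_apply, Sum.inl.injEq, Sum.inr.injEq, reduceCtorEq,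
    if_false, add_zero, zero_add]
  rw [mul_comm (if x = j then (1 : F) else 0)]
  exact CharTwo.add_self_eq_zero _

theorem Q_pxy (m : ℕ) (i : Fin m) : plusForm m F (pxy m F i) = 1 := by
  rw [coe_plusForm, quadFormPlus_apply]
  simp [pxy, Pi.single_apply]

/-- **The number of classes of involutions of `O⁺_2m(q)`, `q` even.** -/
theorem card_classes_plus [Finite F] [CharP F 2] (m : ℕ) :
    Nat.card {C : ConjClasses ↥(Cfsg.isometryGroup F (⇑(plusForm m F))) //
      ∃ g : ↥(Cfsg.isometryGroup F (⇑(plusForm m F))), ConjClasses.mk g = C ∧ orderOf g = 2}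
      = m + m / 2 := by
  have hQ := plus_nondegenerate m F
  have hb : ∀ g : Cfsg.isometryGroup F (⇑(plusForm m F)), g * g = 1 →
      finrank F (resSp g) ≤ m := by
    intro g hg
    have h1 := two_mul_finrank_res_le _ g hg
    rw [Fintype.card_sum, Fintype.card_fin] at h1
    omega
  refine card_classes_O (plusForm m F) hQ m (m / 2) ?_ ?_ hb ?_
  · intro s hs hsm
    exact exists_nonalt_rank _ hQ (pxy m F) (linearIndependent_pxy m) (polar_pxy m) (Q_pxy m) s hs hsm
  · intro r hr hrm
    exact exists_alt_rank _ hQ (px m F) (linearIndependent_px m) (polar_px m) (Q_px m) r (by omega)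
  · intro g hg ha
    have h1 := hb g hg
    obtain ⟨r, hr⟩ := even_of_alt _ hQ g hg ha
    omega

/-! ### minus type -/

section Minus

variable (a b : F) (hab : ∀ z₁ z₂ : F, z₁ ^ 2 + a * z₁ * z₂ + b * z₂ ^ 2 = 0 → z₁ = 0 ∧ z₂ = 0)

theorem minus_nondegenerate [Finite F] (k : ℕ)
    (hab : ∀ z₁ z₂ : F, z₁ ^ 2 + a * z₁ * z₂ + b * z₂ ^ 2 = 0 → z₁ = 0 ∧ z₂ = 0) :
    (polarBilin (minusForm k F a b)).Nondegenerate :=
  nondegenerate_of_nondeg _ (nondeg_minusForm k F a b hab)

/-- the singular vectors `x_i` -/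
def mx (k : ℕ) (F : Type*) [Field F] (i : Fin k) : (Fin k ⊕ Fin k) ⊕ Fin 2 → F :=
  Pi.single (Sum.inl (Sum.inl i)) 1

/-- the vectors `x_i + y_i` and `z` -/
def mxy (k : ℕ) (F : Type*) [Field F] (i : Fin (k + 1)) : (Fin k ⊕ Fin k) ⊕ Fin 2 → F :=
  Fin.lastCases (Pi.single (Sum.inr 0) 1)
    (fun i => Pi.single (Sum.inl (Sum.inl i)) 1 + Pi.single (Sum.inl (Sum.inr i)) 1) i

theorem mxy_last (k : ℕ) : mxy k F (Fin.last k) = Pi.single (Sum.inr 0) 1 := by
  rw [mxy, Fin.lastCases_last]

theorem mxy_castSucc (k : ℕ) (i : Fin k) : mxy k F i.castSucc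
    = Pi.single (Sum.inl (Sum.inl i)) 1 + Pi.single (Sum.inl (Sum.inr i)) 1 := by
  rw [mxy, Fin.lastCases_castSucc]

theorem linearIndependent_mx (k : ℕ) : LinearIndependent F (mx k F) := by
  rw [Fintype.linearIndependent_iff]
  intro c hc i
  have h1 := congrFun hc (Sum.inl (Sum.inl i))
  simpa [mx, Finset.sum_apply, Pi.single_apply] using h1

theorem linearIndependent_mxy (k : ℕ) : LinearIndependent F (mxy k F) := by
  rw [Fintype.linearIndependent_iff]
  intro c hc
  rw [Fin.sum_univ_castSucc] at hc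
  intro i
  refine Fin.lastCases ?_ (fun i => ?_) i
  · have h1 := congrFun hc (Sum.inr 0)
    simpa [mxy_last, mxy_castSucc, Finset.sum_apply, Pi.single_apply] using h1
  · have h1 := congrFun hc (Sum.inl (Sum.inl i))
    simpa [mxy_last, mxy_castSucc, Finset.sum_apply, Pi.single_apply] using h1

theorem polar_mx (k : ℕ) (i j : Fin k) : polar (minusForm k F a b) (mx k F i) (mx k F j) = 0 := by
  rw [polar_minusForm]
  simp [mx]

theorem Q_mx (k : ℕ) (i : Fin k) : minusForm k F a b (mx k F i) = 0 := by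
  rw [coe_minusForm, quadFormMinus_apply]
  simp [mx]

theorem polar_mxy [CharP F 2] (k : ℕ) (i j : Fin (k + 1)) :
    polar (minusForm k F a b) (mxy k F i) (mxy k F j) = 0 := by
  have h2 : (2 : F) = 0 := CharTwo.two_eq_zero
  rw [polar_minusForm]
  refine Fin.lastCases ?_ (fun i => ?_) i <;> refine Fin.lastCases ?_ (fun j => ?_) j
  · simp [mxy_last, h2]
  · simp [mxy_last, mxy_castSucc, h2]
  · simp [mxy_last, mxy_castSucc, h2]
  · simp only [mxy_castSucc, Pi.add_apply, Pi.single_apply, Sum.inl.injEq, Sum.inr.injEq,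
      reduceCtorEq, if_false, add_zero, zero_add, mul_zero]
    apply Finset.sum_eq_zero
    intro x _
    rw [mul_comm (if x = j then (1 : F) else 0)]
    exact CharTwo.add_self_eq_zero _

theorem Q_mxy (k : ℕ) (i : Fin (k + 1)) : minusForm k F a b (mxy k F i) = 1 := by
  rw [coe_minusForm, quadFormMinus_apply]
  refine Fin.lastCases ?_ (fun i => ?_) i
  · simp [mxy_last]
  · simp [mxy_castSucc, Pi.single_apply]

/-- Totally singular subspaces of the minus-type form have dimension at most `k`. -/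
theorem finrank_le_of_singular [Finite F] (k : ℕ)
    (hab : ∀ z₁ z₂ : F, z₁ ^ 2 + a * z₁ * z₂ + b * z₂ ^ 2 = 0 → z₁ = 0 ∧ z₂ = 0)
    (M : Submodule F ((Fin k ⊕ Fin k) ⊕ Fin 2 → F)) (hM : ∀ v ∈ M, minusForm k F a b v = 0) :
    finrank F M ≤ k := by
  by_contra hcon
  push Not at hcon
  have hpol : ∀ u ∈ M, ∀ v ∈ M, polar (minusForm k F a b) u v = 0 := by
    intro u hu v hv
    rw [polar, hM _ (M.add_mem hu hv), hM u hu, hM v hv]
    ring
  -- `k + 1` linearly independent vectors of `M`
  obtain ⟨c, hc⟩ : ∃ c : Fin (k + 1) → M, LinearIndependent F c := by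
    have := (finBasis F M).linearIndependent
    exact ⟨fun i => finBasis F M (Fin.castLE hcon i), this.comp _ (Fin.castLE_injective hcon)⟩
  have hc' : LinearIndependent F fun i => (c i : (Fin k ⊕ Fin k) ⊕ Fin 2 → F) :=
    hc.map' M.subtype (Submodule.ker_subtype M)
  obtain ⟨g, hg, hgx⟩ := Cfsg.Agent.ClassicalGeometry.WittQuad.extend_family (minusForm k F a b)
    (minus_nondegenerate a b k hab) k (fun i => (c i.castSucc : (Fin k ⊕ Fin k) ⊕ Fin 2 → F))
    (mx k F) (hc'.comp _ (Fin.castSucc_injective k)) (linearIndependent_mx k)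
    (fun i => by rw [hM _ (c i.castSucc).2, Q_mx])
    (fun i j => by
      change polar _ _ _ = polar _ _ _
      rw [hpol _ (c i.castSucc).2 _ (c j.castSucc).2, polar_mx])
  set u := g (c (Fin.last k) : (Fin k ⊕ Fin k) ⊕ Fin 2 → F) with hu
  have hu0 : minusForm k F a b u = 0 := by rw [hu, hg, hM _ (c (Fin.last k)).2]
  have hup : ∀ i, u (.inl (.inr i)) = 0 := by
    intro i
    have h1 : polar (minusForm k F a b) (mx k F i) u = 0 := by
      have h2 := Cfsg.Agent.ClassicalGeometry.WittQuad.polar_map (minusForm k F a b) g (map_add g) hg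
        (c i.castSucc) (c (Fin.last k))
      rw [← hu, hgx] at h2
      exact h2.trans (hpol _ (c i.castSucc).2 _ (c (Fin.last k)).2)
    rw [polar_minusForm] at h1
    simpa [mx, Pi.single_apply] using h1
  have hz : u (.inr 0) = 0 ∧ u (.inr 1) = 0 := by
    apply hab
    rw [coe_minusForm, quadFormMinus_apply,
      Finset.sum_eq_zero fun i _ => by rw [hup, mul_zero], zero_add] at hu0
    exact hu0
  have hsum : u = ∑ i, u (.inl (.inl i)) • mx k F i := by
    funext x
    rcases x with (x | x) | x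
    · simp [mx, Finset.sum_apply, Pi.single_apply]
    · simp [mx, Finset.sum_apply, hup]
    · fin_cases x
      · simp [mx, Finset.sum_apply, hz.1]
      · simp [mx, Finset.sum_apply, hz.2]
  have h3 : (c (Fin.last k) : (Fin k ⊕ Fin k) ⊕ Fin 2 → F)
      = ∑ i, u (.inl (.inl i)) • (c i.castSucc : (Fin k ⊕ Fin k) ⊕ Fin 2 → F) := by
    apply g.injective
    rw [← hu, map_sum]
    simp only [map_smul, hgx]
    exact hsum
  have h4 := Fintype.linearIndependent_iff.1 hc'
    (Fin.lastCases (-1) fun i => u (.inl (.inl i))) (by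
      rw [Fin.sum_univ_castSucc]
      simp only [Fin.lastCases_castSucc, Fin.lastCases_last]
      rw [← h3, neg_smul, one_smul, add_neg_cancel]) (Fin.last k)
  rw [Fin.lastCases_last] at h4
  exact one_ne_zero (neg_eq_zero.1 h4)

/-- **The number of classes of involutions of `O⁻_2m(q)`, `q` even.** -/
theorem card_classes_minus [Finite F] [CharP F 2] (k : ℕ)
    (hab : ∀ z₁ z₂ : F, z₁ ^ 2 + a * z₁ * z₂ + b * z₂ ^ 2 = 0 → z₁ = 0 ∧ z₂ = 0) :
    Nat.card {C : ConjClasses ↥(Cfsg.isometryGroup F (⇑(minusForm k F a b))) //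
      ∃ g : ↥(Cfsg.isometryGroup F (⇑(minusForm k F a b))), ConjClasses.mk g = C ∧ orderOf g = 2}
      = (k + 1) + k / 2 := by
  have hQ := minus_nondegenerate a b k hab
  have hb : ∀ g : Cfsg.isometryGroup F (⇑(minusForm k F a b)), g * g = 1 →
      finrank F (resSp g) ≤ k + 1 := by
    intro g hg
    have h1 := two_mul_finrank_res_le _ g hg
    simp only [Fintype.card_sum, Fintype.card_fin] at h1
    omega
  refine card_classes_O (minusForm k F a b) hQ (k + 1) (k / 2) ?_ ?_ hb ?_
  · intro s hs hsm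
    exact exists_nonalt_rank _ hQ (mxy k F) (linearIndependent_mxy k) (polar_mxy a b k)
      (Q_mxy a b k) s hs hsm
  · intro r hr hrm
    exact exists_alt_rank _ hQ (mx k F) (linearIndependent_mx k) (polar_mx a b k) (Q_mx a b k) r
      (by omega)
  · intro g hg ha
    have h1 := finrank_le_of_singular a b k hab (resSp g) ha
    obtain ⟨r, hr⟩ := even_of_alt _ hQ g hg ha
    omega

end Minus

end Cfsg.Agent.H177.InvolForms
end
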